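import Cfsg.Agent.H563.FC.Sig_mg
import Cfsg.Agent.H563.FC.MT
set_option linter.all false

/-!
# S5764: the choice of the transvection (helper563, after an idea of helper706)

`tw b c w` the map `v ↦ c B(v, w) w`.  `five_of_good`: if `w` is isotropic, not an eigenvector of a non-scalar element of
`Hat A`, `f (tw b 1 w) ∉ K (tw b 1 w)` for the `f ∈ S` centralizing `A` with the field automorphism `τ` (unless `τ = 1`),
and if for the skew `c` and the `f ∈ C_S(A)` with `x f x⁻¹ ∈ S`, `x = 1 + tw b c w`, we have `f (tw b c w) = tw b c w`,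
then `FiveB b S`.
-/

set_option autoImplicit false

namespace Cfsg.Agent.H563.FC

open Cfsg.Agent.H198.FC Cfsg.Agent.H277.FC Cfsg.Agent.H706.FC

universe u v

variable {K : Type u} [Field K] {V : Type v} [AddCommGroup V] [Module K V]

/-- `v ↦ c B(v, w) w` -/
def tw (b : Cl K V) (c : K) (w : V) : R K V where
  toFun := fun v => (c * b.B v w) • w
  map_add' := fun v v' => by rw [b.add_left, mul_add, add_smul]
  map_smul' := fun a v => by
    show (c * b.B (a • v) w) • w = a • (c * b.B v w) • w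
    rw [b.smul_left, smul_smul]
    congr 1
    ring

theorem tw_apply (b : Cl K V) (c : K) (w v : V) : tw b c w v = (c * b.B v w) • w := rfl

theorem tw_smul (b : Cl K V) (d c : K) (w : V) : tw b (d * c) w = d • tw b c w := by
  ext v
  rw [tw_apply, LinearMap.smul_apply, tw_apply, smul_smul, mul_assoc]

variable {b : Cl K V}

/-- `B(v, w)` and `B(w, v)` -/
theorem exists_sign (b : Cl K V) : ∃ s : K, s * s = 1 ∧ b.τ s = s ∧ ∀ v w, b.B w v = s * b.τ (b.B v w) := by
  rcases b.typ with ⟨-, h⟩ | ⟨h1, h2⟩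
  · exact ⟨1, one_mul 1, map_one _, fun v w => by rw [h v w, one_mul]⟩
  · refine ⟨-1, by ring, by rw [map_neg, map_one], fun v w => ?_⟩
    have h3 := h2 (v + w)
    rw [b.add_left, b.add_right, b.add_right, h2, h2, zero_add, add_zero] at h3
    rw [h1]
    linear_combination h3

/-- `s` as in `exists_sign`: `tw b c w` is skew-adjoint if `τ c = - s c` -/
theorem tw_adj {s : K} (hs1 : s * s = 1) (hs : ∀ v w, b.B w v = s * b.τ (b.B v w)) (hτs : b.τ s = s) {c : K}
    (hc : b.τ c = - (s * c)) (w : V) : b.Adj (tw b c w) (-(tw b c w)) := by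
  intro v v'
  rw [tw_apply, LinearMap.neg_apply, B_neg_right, tw_apply, b.smul_left, b.smul_right, map_mul, hc, hs w v']
  have h1 : b.τ (s * b.τ (b.B w v')) = s * b.B w v' := by rw [map_mul, hτs, b.invol]
  rw [h1]
  linear_combination (-(c * b.B v w * b.B w v')) * hs1

theorem nil_tw {w : V} (hw : w ≠ 0) (hww : b.B w w = 0) {s : K} (hs1 : s * s = 1)
    (hs : ∀ v w, b.B w v = s * b.τ (b.B v w)) (hτs : b.τ s = s) {c : K}
    (hc : b.τ c = - (s * c)) (hc0 : c ≠ 0) : Nil b (tw b c w) w := by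
  refine ⟨⟨{ toFun := fun v => c * b.B v w, map_add' := fun v v' => ?_, map_smul' := fun a v => ?_ }, ?_, fun v => rfl⟩,
    hw, hww, tw_adj hs1 hs hτs hc w⟩
  · rw [b.add_left, mul_add]
  · show c * b.B (a • v) w = a * (c * b.B v w)
    rw [b.smul_left]
    ring
  · obtain ⟨v, hv⟩ := exists_right (b := b) hw
    intro h
    have h1 := LinearMap.congr_fun h v
    exact mul_ne_zero hc0 hv h1

theorem isom_uN {N : R K V} {w : V} (hN : Nil b N w) : b.Isom (uN N hN.sq : R K V) := by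
  intro v v'
  rw [uN_val]
  show b.B (v + N v) (v' + N v') = b.B v v'
  rw [b.add_left, b.add_right, b.add_right, hN.adj v v', hN.adj v (N v')]
  rw [LinearMap.neg_apply, LinearMap.neg_apply, ← Module.End.mul_apply N N v', hN.sq, LinearMap.zero_apply,
    B_neg_right, neg_zero, B_zero_right]
  ring

theorem det_uN [Module.Finite K V] {N : R K V} {w : V} (hN : Nil b N w) :
    LinearMap.det (uN N hN.sq : R K V) = 1 := by
  obtain ⟨φ, hφ0, hφ⟩ := hN.ex
  have h1 : (uN N hN.sq : R K V) = LinearMap.transvection φ w := by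
    ext v
    rw [uN_val, LinearMap.transvection.apply]
    show v + N v = _
    rw [hφ]
  have h2 : φ w = 0 := by
    have h3 : N (N w) = 0 := by
      rw [← Module.End.mul_apply, hN.sq]
      rfl
    rw [hφ w, map_smul, hφ w, smul_smul] at h3
    rcases smul_eq_zero.1 h3 with h4 | h4
    · exact mul_self_eq_zero.1 h4
    · exact absurd h4 hN.w0
  rw [h1, LinearMap.transvection.det, h2, add_zero]

theorem RP_sum {f : Equiv.Perm (R K V)} (hf : f ∈ RP K V) {ι : Type*} (s : Finset ι) (g : ι → R K V) :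
    f (∑ i ∈ s, g i) = ∑ i ∈ s, f (g i) := by
  let F : R K V →+ R K V :=
    { toFun := f
      map_zero' := RP_map_zero hf
      map_add' := hf.1 }
  exact map_sum F g s

/-- the elements centralizing `A` for which `N` is an eigenvector -/
def Cw (S A : Subgroup (Equiv.Perm (R K V))) (hS : S ≤ RP K V) [Nontrivial V] (N : R K V) :
    Subgroup (Equiv.Perm (R K V)) where
  carrier := {f | f ∈ S ∧ (∀ c ∈ A, f * c = c * f) ∧ ∃ k : K, k ≠ 0 ∧ f N = k • N}
  one_mem' := ⟨one_mem _, fun c _ => by rw [one_mul, mul_one], 1, one_ne_zero, by rw [one_smul]; rfl⟩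
  mul_mem' := by
    rintro f g ⟨hf, hfc, k, hk, hfk⟩ ⟨hg, hgc, k', hk', hgk⟩
    obtain ⟨σ, hσ⟩ := exists_sig (hS hf)
    refine ⟨mul_mem hf hg, fun c hc => by rw [mul_assoc, hgc c hc, ← mul_assoc, hfc c hc, mul_assoc], σ k' * k,
      mul_ne_zero (by simpa using hk') hk, ?_⟩
    show f (g N) = _
    rw [hgk, hσ.smul (hS hf), hfk, smul_smul]
  inv_mem' := by
    rintro f ⟨hf, hfc, k, hk, hfk⟩
    obtain ⟨σ, hσ⟩ := exists_sig (hS hf)
    refine ⟨inv_mem hf, fun c hc => by
      rw [inv_mul_eq_iff_eq_mul, ← mul_assoc, hfc c hc, mul_inv_cancel_right], (σ.symm k)⁻¹,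
      inv_ne_zero (by simpa using hk), ?_⟩
    apply f.injective
    have h1 : f (f⁻¹ N) = N := f.apply_symm_apply N
    rw [h1, hσ.smul (hS hf), map_inv₀, RingEquiv.apply_symm_apply, hfk, smul_smul, inv_mul_cancel₀ hk, one_smul]

/-- scalars of skew-adjoint multiples -/
theorem skew_scalar {N : R K V} {w : V} (hN : Nil b N w) {k : K} (hk : b.Adj (k • N) (-(k • N))) : b.τ k = k := by
  obtain ⟨φ, hφ0, hφ⟩ := hN.ex
  obtain ⟨v, hv⟩ : ∃ v, φ v ≠ 0 := by
    by_contra hcon
    push Not at hcon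
    exact hφ0 (LinearMap.ext hcon)
  have hNv : N v ≠ 0 := by rw [hφ]; exact smul_ne_zero hv hN.w0
  obtain ⟨u, hu⟩ := exists_left (b := b) hNv
  have h1 := hk v u
  have h2 := hN.adj v u
  rw [LinearMap.smul_apply, b.smul_left, LinearMap.neg_apply, LinearMap.smul_apply, B_neg_right, b.smul_right] at h1
  rw [LinearMap.neg_apply, B_neg_right] at h2
  have h3 : (k - b.τ k) * b.B (N v) u = 0 := by
    rw [sub_mul, h1, h2]
    ring
  rcases mul_eq_zero.1 h3 with h4 | h4
  · exact (sub_eq_zero.1 h4).symm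
  · exact absurd h4 hu

section main

variable [Finite K] [Module.Finite K V] {S A : Subgroup (Equiv.Perm (R K V))} {r a : ℕ}

/-- **the choice of the scalar**, avoiding one value -/
theorem five_of_good' (hSb : S ≤ RB b) (h : C6Data S A r a) (hsol : Group.IsSolvable S) {w : V} (hw : w ≠ 0)
    (hww : b.B w w = 0) (h1 : ∀ y ∈ Hat A, (∃ l : K, (y : R K V) w = l • w) → Scal y)
    (h2 : ∀ f ∈ S, (∀ c ∈ A, f * c = c * f) → HasSig f b.τ → (∃ t, b.τ t ≠ t) → ∀ k : K,
      f (tw b 1 w) ≠ k • tw b 1 w) (bad : K) (hbad : bad = 0 ∨ 4 ≤ Nat.card (K0 b.τ))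
    (h3 : ∀ (c : K) (hN : Nil b (tw b c w) w), c ≠ bad → ∀ f ∈ S, (∀ c ∈ A, f * c = c * f) →
      cj K V (uN (tw b c w) hN.sq) * f * (cj K V (uN (tw b c w) hN.sq))⁻¹ ∈ S → f (tw b c w) = tw b c w) :
    FiveB b S := by
  classical
  have := nontrivial_of h
  have hSP : S ≤ RP K V := fun f hf => (hSb hf).1
  have hfinR := finite_R (K := K) (V := V)
  obtain ⟨s, hs1, hτs, hs⟩ := exists_sign b
  obtain ⟨c1, hc10, hc1⟩ : ∃ c : K, c ≠ 0 ∧ b.τ c = -(s * c) := by
    rcases b.typ with ⟨⟨ε, hε⟩, hU⟩ | ⟨hτ, hS⟩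
    · have hs' : s = 1 := by
        obtain ⟨v, hv⟩ := exists_left (b := b) hw
        have e1 := hs v w
        have e2 := hU v w
        rw [e2] at e1
        have e3 : b.τ (b.B v w) ≠ 0 := by rw [← e2]; exact hv
        have e4 : (1 - s) * b.τ (b.B v w) = 0 := by rw [sub_mul, one_mul, ← e1, sub_self]
        rcases mul_eq_zero.1 e4 with e5 | e5
        · exact (sub_eq_zero.1 e5).symm
        · exact absurd e5 e3
      exact ⟨ε - b.τ ε, fun h0 => hε (sub_eq_zero.1 h0).symm, by rw [map_sub, b.invol, hs']; ring⟩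
    · have hs' : s = -1 := by
        obtain ⟨v, hv⟩ := exists_left (b := b) hw
        have e1 := hs v w
        rw [hτ] at e1
        have e0 := hS (v + w)
        rw [b.add_left, b.add_right, b.add_right, hS, hS, zero_add, add_zero] at e0
        have e4 : (s + 1) * b.B v w = 0 := by rw [add_mul, one_mul, ← e1]; linear_combination e0
        rcases mul_eq_zero.1 e4 with e5 | e5
        · exact eq_neg_of_add_eq_zero_left e5
        · rw [e5, mul_zero] at e1
          exact absurd e1 hv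
      exact ⟨1, one_ne_zero, by rw [hτ, hs']; ring⟩
  have hN1 : Nil b (tw b c1 w) w := nil_tw hw hww hs1 hs hτs hc1 hc10
  set N1 := tw b c1 w with hN1def
  have hN10 : N1 ≠ 0 := hN1.ne_zero
  let C := Cw S A hSP N1
  have hC : ∀ f : C, (f : Equiv.Perm (R K V)) ∈ S := fun f => f.2.1
  have hsig : ∀ f : C, ∃ σ : K ≃+* K, HasSig (f : Equiv.Perm (R K V)) σ := fun f => exists_sig (hSP (hC f))
  choose σ hσ using hsig
  have hkk : ∀ f : C, ∃ k : K, k ≠ 0 ∧ (f : Equiv.Perm (R K V)) N1 = k • N1 := fun f => f.2.2.2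
  choose k hk0 hk using hkk
  -- multiples of `N1`
  have hskew : ∀ (f : C) (t : K), t ∈ K0 b.τ → σ f t * k f ∈ K0 b.τ := by
    intro f t ht
    have e1 : b.Adj (t • N1) (-(t • N1)) := by
      rw [hN1def, ← tw_smul]
      exact tw_adj hs1 hs hτs (by rw [map_mul, mem_K0.1 ht, hc1]; ring) w
    have e2 := (RB_adj (hSb (hC f)) _ _).1 e1
    rw [RP_map_neg (hSP (hC f)), (hσ f).smul (hSP (hC f)), hk, smul_smul] at e2
    exact skew_scalar hN1 e2
  -- the action on `K₀` is faithful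
  have hfaith : ∀ f : C, (∀ t ∈ K0 b.τ, σ f t = t) → f = 1 := by
    intro f hf
    have hcase : (∀ t, σ f t = t) ∨ ((∃ t, b.τ t ≠ t) ∧ ∀ t, σ f t = b.τ t) := by
      by_cases hε : ∃ ε, b.τ ε ≠ ε
      · obtain ⟨ε, hε⟩ := hε
        rcases eq_one_or_tau b.invol hε hf with e1 | e1
        · exact Or.inl e1
        · exact Or.inr ⟨⟨ε, hε⟩, e1⟩
      · push Not at hε
        exact Or.inl fun t => hf t (hε t)
    rcases hcase with e1 | ⟨e0, e1⟩
    · have e2 := (hσ f).mem_A h (hSP (hC f)) e1 f.2.2.1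
      obtain ⟨y, hy⟩ := h.2.2.2.2.1 e2
      have e3 : y ∈ Hat A := by rw [mem_Hat, hy]; exact e2
      obtain ⟨v, hv⟩ := exists_right (b := b) hw
      have e4 : (y : R K V) w = ((c1 * b.B v w)⁻¹ * (k f * (c1 * b.B ((y : R K V) v) w))) • w := by
        have e5 := hk f
        rw [← hy, cj_apply] at e5
        have e6 : (y : R K V) * N1 = (k f • N1) * y := by
          rw [← e5, mul_assoc, Units.inv_mul, mul_one]
        have e7 := LinearMap.congr_fun e6 v
        rw [Module.End.mul_apply, Module.End.mul_apply, LinearMap.smul_apply, hN1def, tw_apply, tw_apply, map_smul,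
          smul_smul] at e7
        have e8 : c1 * b.B v w ≠ 0 := mul_ne_zero hc10 hv
        rw [mul_smul, ← e7, smul_smul, inv_mul_cancel₀ e8, one_smul]
      have e9 := h1 y e3 ⟨_, e4⟩
      apply Subtype.ext
      rw [← hy, cj_of_scal e9]
      rfl
    · exfalso
      have e2 : HasSig (f : Equiv.Perm (R K V)) b.τ := fun t => by rw [hσ f t, e1]
      refine h2 f (hC f) f.2.2.1 e2 e0 ((b.τ c1)⁻¹ * (k f * c1)) ?_
      have e3 : N1 = c1 • tw b 1 w := by rw [hN1def, ← tw_smul, mul_one]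
      have e4 := hk f
      rw [e3, e2.smul (hSP (hC f)), smul_smul] at e4
      rw [mul_smul, ← e4, smul_smul, inv_mul_cancel₀ (by simpa using hc10), one_smul]
  -- the characters
  let χ : C → (K0 b.τ →* K) := fun f => ((σ f : K →* K)).comp ((K0 b.τ).subtype : K0 b.τ →* K)
  have hχ : ∀ (f : C) (t : K0 b.τ), χ f t = σ f t := fun _ _ => rfl
  have hσmul : ∀ (f g : C) (t : K), σ (f * g) t = σ f (σ g t) := by
    intro f g t
    have e1 := HasSig.mul (hSP (hC f)) (hσ f) (hσ g)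
    have e2 := (hσ (f * g)).unique e1
    rw [e2]
    rfl
  have hσinv : ∀ (f : C) (t : K), σ f⁻¹ (σ f t) = t := by
    intro f t
    rw [← hσmul, inv_mul_cancel]
    have e1 : σ (1 : C) = RingEquiv.refl K := (hσ 1).unique fun t => rfl
    rw [e1]
    rfl
  have hχinj : Function.Injective χ := by
    intro f g hfg
    have e1 : ∀ t ∈ K0 b.τ, σ (g⁻¹ * f) t = t := by
      intro t ht
      have e2 := DFunLike.congr_fun hfg ⟨t, ht⟩
      rw [hχ, hχ] at e2
      rw [hσmul, e2, hσinv]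
    have e3 := hfaith _ e1
    exact (inv_mul_eq_one.1 e3).symm
  have := Fintype.ofFinite C
  have hli := (linearIndependent_monoidHom (K0 b.τ) K).comp χ hχinj
  rw [Fintype.linearIndependent_iff] at hli
  obtain ⟨t, ht⟩ : ∃ t : K0 b.τ, ∑ f : C, k f * σ f t ≠ 0 := by
    by_contra hcon
    push Not at hcon
    refine hk0 1 (hli k ?_ 1)
    funext t
    rw [Finset.sum_apply]
    exact hcon t
  set c0 := ∑ f : C, k f * σ f t with hc0
  have hsum : ∑ f : C, (f : Equiv.Perm (R K V)) ((t : K) • N1) = c0 • N1 := by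
    rw [hc0, Finset.sum_smul]
    refine Finset.sum_congr rfl fun f _ => ?_
    rw [(hσ f).smul (hSP (hC f)), hk, smul_smul, mul_comm]
  have hinv : ∀ g : C, (g : Equiv.Perm (R K V)) (c0 • N1) = c0 • N1 := by
    intro g
    rw [← hsum, RP_sum (hSP (hC g))]
    exact Fintype.sum_equiv (Equiv.mulLeft g) _ _ fun f => rfl
  have hc0K : c0 ∈ K0 b.τ := by
    refine sum_mem fun f _ => ?_
    rw [mul_comm]
    exact hskew f t t.2
  obtain ⟨d, hdK, hd0, hd, hdb⟩ : ∃ d : K, d ∈ K0 b.τ ∧ d ≠ 0 ∧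
      (∀ σ : K ≃+* K, σ d = d → ∀ a ∈ K0 b.τ, σ a = a) ∧ d * c0 * c1 ≠ bad := by
    rcases hbad with hb0 | hb4
    · obtain ⟨d, hdK, hd0, hd⟩ := exists_gen (τ := b.τ)
      exact ⟨d, hdK, hd0, hd, by rw [hb0]; exact mul_ne_zero (mul_ne_zero hd0 ht) hc10⟩
    · obtain ⟨d, hdK, hd0, hd, hne⟩ := exists_gen_ne hb4 (bad / (c0 * c1))
      refine ⟨d, hdK, hd0, hd, fun h0 => hne ?_⟩
      rw [eq_div_iff (mul_ne_zero ht hc10), ← h0, mul_assoc]
  have hdc : d * c0 ≠ 0 := mul_ne_zero hd0 ht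
  have hN : Nil b (tw b (d * c0 * c1) w) w := by
    refine nil_tw hw hww hs1 hs hτs ?_ (mul_ne_zero hdc hc10)
    rw [map_mul, map_mul, mem_K0.1 hdK, mem_K0.1 hc0K, hc1]
    ring
  refine mtB hSb h hsol (uN _ hN.sq) (det_uN hN) (isom_uN hN) fun f hf hfc hfx => ?_
  have e1 := h3 _ hN hdb f hf hfc hfx
  obtain ⟨ρ, hρ⟩ := exists_sig (hSP hf)
  have e2 : tw b (d * c0 * c1) w = (d * c0) • N1 := by rw [hN1def, ← tw_smul]
  rw [e2, hρ.smul (hSP hf)] at e1
  have hρ0 : ρ (d * c0) ≠ 0 := by simpa using hdc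
  have e3 : f N1 = ((ρ (d * c0))⁻¹ * (d * c0)) • N1 := by
    rw [mul_smul, ← e1, smul_smul, inv_mul_cancel₀ hρ0, one_smul]
  let g : C := ⟨f, hf, hfc, _, mul_ne_zero (inv_ne_zero hρ0) hdc, e3⟩
  have e4 := hinv g
  have e5 : f (c0 • N1) = c0 • N1 := e4
  have e6 : ρ d = d := by
    have e7 : f ((d * c0) • N1) = (d * c0) • N1 := by
      rw [hρ.smul (hSP hf)]
      exact e1
    rw [mul_smul, hρ.smul (hSP hf), e5, smul_smul, smul_smul] at e7
    have e8 := smul_left_injective K hN10 e7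
    exact mul_right_cancel₀ ht e8
  have e7 : σ g = ρ := (hσ g).unique hρ
  have e8 := hfaith g (by rw [e7]; exact hd ρ e6)
  exact congrArg Subtype.val e8

/-- **the choice of the scalar** -/
theorem five_of_good (hSb : S ≤ RB b) (h : C6Data S A r a) (hsol : Group.IsSolvable S) {w : V} (hw : w ≠ 0)
    (hww : b.B w w = 0) (h1 : ∀ y ∈ Hat A, (∃ l : K, (y : R K V) w = l • w) → Scal y)
    (h2 : ∀ f ∈ S, (∀ c ∈ A, f * c = c * f) → HasSig f b.τ → (∃ t, b.τ t ≠ t) → ∀ k : K,
      f (tw b 1 w) ≠ k • tw b 1 w)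
    (h3 : ∀ (c : K) (hN : Nil b (tw b c w) w), ∀ f ∈ S, (∀ c ∈ A, f * c = c * f) →
      cj K V (uN (tw b c w) hN.sq) * f * (cj K V (uN (tw b c w) hN.sq))⁻¹ ∈ S → f (tw b c w) = tw b c w) :
    FiveB b S :=
  five_of_good' hSb h hsol hw hww h1 h2 0 (Or.inl rfl) fun c hN _ => h3 c hN

end main

end Cfsg.Agent.H563.FC
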