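import Cfsg.Agent.H563.FC.Sig_mg
import Cfsg.Agent.H706.FC.Tv
set_option linter.all false

-- part: H563/FC/Iso
section
/-!
# Isotropic vectors of unitary forms in odd characteristic (helper563)

`exists_hyp` : a hyperbolic pair.  `exists_family` : a set `X` of pairwise non-proportional isotropic vectors with
`|X| |K|² = |V| |K₀|`, i.e. `|X| = q^(2n-3)`.
-/

set_option autoImplicit false

namespace Cfsg.Agent.H563.FC

open Cfsg.Agent.H198.FC Cfsg.Agent.H706.FC

universe u v

variable {K : Type u} [Field K] {V : Type v} [AddCommGroup V] [Module K V] {b : Cl K V}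

theorem herm_mem (hU : b.IsU) (v : V) : b.B v v ∈ K0 b.τ := (hU.2 v v).symm

/-- a non-zero vector orthogonal to few vectors -/
theorem exists_perp [Module.Finite K V] (b : Cl K V) {k : ℕ} (u : Fin k → V) (hk : k < Module.finrank K V) :
    ∃ v, v ≠ 0 ∧ ∀ i, b.B v (u i) = 0 := by
  let Φ : V →ₗ[K] (Fin k → K) :=
    { toFun := fun v i => b.B v (u i)
      map_add' := fun v w => funext fun i => b.add_left v w (u i)
      map_smul' := fun a v => funext fun i => b.smul_left a v (u i) }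
  have h1 : LinearMap.ker Φ ≠ ⊥ := by
    intro h
    have h2 := LinearMap.finrank_le_finrank_of_injective (LinearMap.ker_eq_bot.1 h)
    rw [Module.finrank_fin_fun] at h2
    omega
  obtain ⟨v, hv, hv0⟩ := Submodule.exists_mem_ne_zero_of_ne_bot h1
  exact ⟨v, hv0, fun i => congrFun (LinearMap.mem_ker.1 hv) i⟩

theorem exists_isotropic [Finite K] [Module.Finite K V] (hU : b.IsU) (h2 : (2 : K) ≠ 0)
    (hn : 3 ≤ Module.finrank K V) : ∃ e : V, e ≠ 0 ∧ b.B e e = 0 := by
  by_contra hcon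
  push Not at hcon
  obtain ⟨v1, h1, -⟩ := exists_perp b (k := 0) (fun i => i.elim0) (by omega)
  obtain ⟨v2, h2', h21⟩ := exists_perp b ![v1] (by omega)
  obtain ⟨v3, h3, h31⟩ := exists_perp b ![v1, v2] (by omega)
  have e21 : b.B v2 v1 = 0 := h21 0
  have e31 : b.B v3 v1 = 0 := h31 0
  have e32 : b.B v3 v2 = 0 := h31 1
  have e12 := B_symm e21
  have e13 := B_symm e31
  have e23 := B_symm e32
  let d1 : K0 b.τ := ⟨b.B v1 v1, herm_mem hU v1⟩
  let d2 : K0 b.τ := ⟨b.B v2 v2, herm_mem hU v2⟩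
  let d3 : K0 b.τ := ⟨b.B v3 v3, herm_mem hU v3⟩
  have hd1 : d1 ≠ 0 := fun h => hcon v1 h1 (congrArg Subtype.val h)
  have hd2 : d2 ≠ 0 := fun h => hcon v2 h2' (congrArg Subtype.val h)
  have := Fintype.ofFinite (K0 b.τ)
  have hchar : ringChar (K0 b.τ) ≠ 2 := by
    intro h
    have h5 : ((2 : ℕ) : K0 b.τ) = 0 := by rw [← h]; exact ringChar.Nat.cast_ringChar
    apply h2
    have h6 := congrArg Subtype.val h5
    push_cast at h6
    exact h6
  obtain ⟨x, y, hxy⟩ := FiniteField.exists_root_sum_quadratic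
    (f := Polynomial.C d1 * Polynomial.X ^ 2 + Polynomial.C d3) (g := Polynomial.C d2 * Polynomial.X ^ 2)
    (by compute_degree!) (by compute_degree!) (FiniteField.odd_card_of_char_ne_two hchar)
  simp only [Polynomial.eval_add, Polynomial.eval_mul, Polynomial.eval_C, Polynomial.eval_pow,
    Polynomial.eval_X] at hxy
  have hxy' : b.B v1 v1 * (x : K) ^ 2 + b.B v3 v3 + b.B v2 v2 * (y : K) ^ 2 = 0 := by
    have := congrArg Subtype.val hxy
    push_cast at this
    exact this
  refine hcon ((x : K) • v1 + (y : K) • v2 + v3) ?_ ?_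
  · intro h
    have h4 : b.B ((x : K) • v1 + (y : K) • v2 + v3) v3 = 0 := by rw [h, B_zero_left]
    rw [b.add_left, b.add_left, b.smul_left, b.smul_left, e13, e23, mul_zero, mul_zero, zero_add, zero_add] at h4
    exact hcon v3 h3 h4
  · have hx : b.τ (x : K) = x := x.2
    have hy : b.τ (y : K) = y := y.2
    simp only [b.add_left, b.add_right, b.smul_left, b.smul_right, hx, hy, e12, e13, e21, e23, e31, e32]
    linear_combination hxy'

theorem exists_hyp [Finite K] [Module.Finite K V] (hU : b.IsU) (h2 : (2 : K) ≠ 0)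
    (hn : 3 ≤ Module.finrank K V) : ∃ e f : V, b.B e e = 0 ∧ b.B f f = 0 ∧ b.B e f = 1 ∧ b.B f e = 1 := by
  obtain ⟨e, he0, hee⟩ := exists_isotropic hU h2 hn
  obtain ⟨u, hu⟩ := exists_right (b := b) he0
  -- normalise
  obtain ⟨u', hu1⟩ : ∃ u', b.B u' e = 1 := ⟨(b.B u e)⁻¹ • u, by rw [b.smul_left, inv_mul_cancel₀ hu]⟩
  have hu2 : b.B e u' = 1 := by rw [hU.2 u' e, hu1, map_one]
  have ht : b.τ (b.B u' u' / 2) = b.B u' u' / 2 := by
    rw [map_div₀, herm_mem hU u', map_ofNat]
  refine ⟨e, u' - (b.B u' u' / 2) • e, hee, ?_, ?_, ?_⟩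
  · rw [B_sub_left, B_sub_right, B_sub_right, b.smul_left, b.smul_left, b.smul_right, b.smul_right, ht, hu1, hu2, hee]
    field_simp
    ring
  · rw [B_sub_right, b.smul_right, hee, hu2, mul_zero, sub_zero]
  · rw [B_sub_left, b.smul_left, hee, hu1, mul_zero, sub_zero]

/-- pairwise non-proportional isotropic vectors -/
theorem exists_family [Finite K] [Module.Finite K V] (hU : b.IsU) (h2 : (2 : K) ≠ 0)
    (hn : 3 ≤ Module.finrank K V) : ∃ X : Set V, (∀ w ∈ X, w ≠ 0 ∧ b.B w w = 0) ∧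
      (∀ w ∈ X, ∀ w' ∈ X, ∀ l : K, w' = l • w → w' = w) ∧
      Nat.card X * Nat.card K ^ 2 = Nat.card V * Nat.card (K0 b.τ) := by
  obtain ⟨e, f, hee, hff, hef, hfe⟩ := exists_hyp hU h2 hn
  obtain ⟨ε, hε⟩ := hU.1
  have hfinV : Finite V := Module.finite_of_finite K
  set δ : K := ε - b.τ ε with hδ
  have hδ0 : δ ≠ 0 := fun h => hε (sub_eq_zero.1 h).symm
  have hτδ : b.τ δ = -δ := by rw [hδ, map_sub, b.invol]; ring
  -- the orthogonal complement of `e, f`
  let V' : Submodule K V :=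
    { carrier := {v | b.B v e = 0 ∧ b.B v f = 0}
      add_mem' := fun {v w} hv hw => ⟨by rw [b.add_left, hv.1, hw.1, add_zero], by rw [b.add_left, hv.2, hw.2, add_zero]⟩
      zero_mem' := ⟨B_zero_left e, B_zero_left f⟩
      smul_mem' := fun a v hv => ⟨by rw [b.smul_left, hv.1, mul_zero], by rw [b.smul_left, hv.2, mul_zero]⟩ }
  have hV'e : ∀ v : V', b.B (v : V) e = 0 := fun v => v.2.1
  have hV'f : ∀ v : V', b.B (v : V) f = 0 := fun v => v.2.2
  have hcardV : Nat.card V = Nat.card K * Nat.card K * Nat.card V' := by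
    rw [← Nat.card_prod, ← Nat.card_prod]
    refine Nat.card_congr (Equiv.ofBijective
      (fun v : V => ((b.B v f, b.B v e), (⟨v - b.B v f • e - b.B v e • f, ?_, ?_⟩ : V'))) ⟨?_, ?_⟩)
    · rw [B_sub_left, B_sub_left, b.smul_left, b.smul_left, hee, hfe]; ring
    · rw [B_sub_left, B_sub_left, b.smul_left, b.smul_left, hff, hef]; ring
    · intro v w h
      have h1 := congrArg (fun p => p.1.1) h
      have h2 := congrArg (fun p => p.1.2) h
      have h3 := congrArg (fun p => ((p.2 : V') : V)) h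
      simp only at h1 h2 h3
      rw [h1, h2] at h3
      exact sub_left_injective (sub_left_injective h3)
    · rintro ⟨⟨x, y⟩, v⟩
      refine ⟨x • e + y • f + v, ?_⟩
      have h1 : b.B (x • e + y • f + v) f = x := by
        rw [b.add_left, b.add_left, b.smul_left, b.smul_left, hff, hef, hV'f]; ring
      have h2 : b.B (x • e + y • f + v) e = y := by
        rw [b.add_left, b.add_left, b.smul_left, b.smul_left, hee, hfe, hV'e]; ring
      refine Prod.ext (Prod.ext h1 h2) (Subtype.ext ?_)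
      show x • e + y • f + v - b.B (x • e + y • f + v) f • e - b.B (x • e + y • f + v) e • f = v
      rw [h1, h2]
      abel
  let Ψ : V' × K0 b.τ → V := fun p => e + (-(b.B (p.1 : V) p.1) / 2 + p.2 * δ) • f + p.1
  have hΨf : ∀ p, b.B (Ψ p) f = 1 := by
    intro p
    show b.B (e + (-(b.B (p.1 : V) p.1) / 2 + p.2 * δ) • f + p.1) f = 1
    rw [b.add_left, b.add_left, b.smul_left, hff, hef, hV'f]; ring
  have hΨe : ∀ p, b.B (Ψ p) e = -(b.B (p.1 : V) p.1) / 2 + p.2 * δ := by
    intro p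
    show b.B (e + (-(b.B (p.1 : V) p.1) / 2 + p.2 * δ) • f + p.1) e = _
    rw [b.add_left, b.add_left, b.smul_left, hee, hfe, hV'e]; ring
  have hinj : Function.Injective Ψ := by
    rintro p q h
    have h1 : -(b.B (p.1 : V) p.1) / 2 + p.2 * δ = -(b.B (q.1 : V) q.1) / 2 + q.2 * δ := by
      rw [← hΨe, ← hΨe, h]
    have h2 : (p.1 : V) = q.1 := by
      have h3 : e + (-(b.B (p.1 : V) p.1) / 2 + p.2 * δ) • f + p.1 =
        e + (-(b.B (q.1 : V) q.1) / 2 + q.2 * δ) • f + q.1 := h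
      rw [h1] at h3
      exact add_left_cancel h3
    have h4 : p.1 = q.1 := Subtype.ext h2
    rw [h4] at h1
    have h5 := mul_right_cancel₀ hδ0 (add_left_cancel h1)
    exact Prod.ext h4 (Subtype.ext h5)
  refine ⟨Set.range Ψ, ?_, ?_, ?_⟩
  · rintro _ ⟨p, rfl⟩
    refine ⟨fun h => ?_, ?_⟩
    · have h1 := hΨf p
      rw [h, B_zero_left] at h1
      exact zero_ne_one h1
    · have h1 := hΨe p
      have h3 : b.B e (p.1 : V) = 0 := B_symm (hV'e p.1)
      have h4 : b.B f (p.1 : V) = 0 := B_symm (hV'f p.1)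
      have h5 : b.B (Ψ p) (p.1 : V) = b.B (p.1 : V) p.1 := by
        show b.B (e + (-(b.B (p.1 : V) p.1) / 2 + p.2 * δ) • f + p.1) (p.1 : V) = _
        rw [b.add_left, b.add_left, b.smul_left, h3, h4]; ring
      have h6 : b.B (Ψ p) (Ψ p) = b.B (Ψ p) e + b.τ (-(b.B (p.1 : V) p.1) / 2 + p.2 * δ) * b.B (Ψ p) f +
          b.B (Ψ p) (p.1 : V) := by
        conv_lhs => rw [show Ψ p = e + (-(b.B (p.1 : V) p.1) / 2 + p.2 * δ) • f + p.1 from rfl]
        rw [b.add_right, b.add_right, b.smul_right]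
      rw [h6, h1, hΨf, h5, map_add, map_mul, map_div₀, map_neg, map_ofNat, herm_mem hU, hτδ]
      have h7 : b.τ ((p.2 : K0 b.τ) : K) = p.2 := p.2.2
      rw [h7]
      field_simp
      ring
  · rintro _ ⟨p, rfl⟩ _ ⟨q, rfl⟩ l h
    have h1 := hΨf q
    rw [h, b.smul_left, hΨf, mul_one] at h1
    rw [h, h1, one_smul]
  · have h1 : Nat.card (Set.range Ψ) = Nat.card V' * Nat.card (K0 b.τ) := by
      rw [← Nat.card_prod]
      exact Nat.card_congr (Equiv.ofInjective Ψ hinj).symm
    rw [h1, hcardV]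
    ring

end Cfsg.Agent.H563.FC
end

-- part: H563/FC/Cnt
section
/-!
# Counting fixed points (helper563)
-/

set_option autoImplicit false

namespace Cfsg.Agent.H563.FC

open Cfsg.Agent.H198.FC Cfsg.Agent.H706.FC

universe u v

variable {K : Type u} [Field K] {V : Type v} [AddCommGroup V] [Module K V]

/-- a properly semilinear bijection fixes at most `m` of a set of points, `|V| ≤ m²` -/
theorem card_pts_le [Finite K] [Finite V] {g : Equiv.Perm V} {σ : K ≃+* K} (hadd : ∀ v w, g (v + w) = g v + g w)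
    (hsm : ∀ (a : K) (v : V), g (a • v) = σ a • g v) {t : K} (ht : σ t ≠ t) {X : Set V} (hX0 : ∀ w ∈ X, w ≠ 0)
    (hX : ∀ w ∈ X, ∀ w' ∈ X, ∀ l : K, w' = l • w → w' = w) {m : ℕ} (hm : Nat.card V ≤ m * m) :
    Nat.card {w : V // w ∈ X ∧ ∃ l : K, g w = l • w} ≤ m := by
  classical
  have := Fintype.ofFinite K
  have hg0 : g 0 = 0 := by
    have h1 := hadd 0 0
    rw [add_zero] at h1
    simpa using h1
  have h1 : ∀ w : {w : V // w ∈ X ∧ ∃ l : K, g w = l • w}, ∃ l : Kˣ, g w = (l : K) • (w : V) := by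
    rintro ⟨w, hw, l, hl⟩
    have hl0 : l ≠ 0 := by
      rintro rfl
      rw [zero_smul] at hl
      exact hX0 w hw (g.injective (hl.trans hg0.symm))
    exact ⟨Units.mk0 l hl0, hl⟩
  choose L hL using h1
  let P := Σ μ : Kˣ, {v : V // g v = (μ : K) • v}
  have hfac : ∀ (s : Kˣ) (w : {w : V // w ∈ X ∧ ∃ l : K, g w = l • w}),
      g ((s : K) • (w : V)) = ((Units.map (σ : K →* K) s * s⁻¹ * L w : Kˣ) : K) • ((s : K) • (w : V)) := by
    intro s w
    rw [hsm, hL, smul_smul, smul_smul]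
    congr 1
    simp only [Units.val_mul, Units.coe_map]
    have : ((s⁻¹ : Kˣ) : K) * s = 1 := Units.inv_mul s
    calc σ s * L w = σ s * (((s⁻¹ : Kˣ) : K) * s) * L w := by rw [this, mul_one]
      _ = _ := by
        show σ s * (((s⁻¹ : Kˣ) : K) * s) * L w = σ s * ((s⁻¹ : Kˣ) : K) * L w * s
        ring
  let Φ : {w : V // w ∈ X ∧ ∃ l : K, g w = l • w} × Kˣ → P := fun p =>
    ⟨Units.map (σ : K →* K) p.2 * p.2⁻¹ * L p.1, ⟨(p.2 : K) • (p.1 : V), hfac p.2 p.1⟩⟩
  have hΦ : ∀ p, (((Φ p).2 : {v : V // g v = ((Φ p).1 : K) • v}) : V) = (p.2 : K) • (p.1 : V) := fun _ => rfl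
  have hinj : Function.Injective Φ := by
    rintro ⟨w, s⟩ ⟨w', s'⟩ h
    have h1 : (s : K) • (w : V) = (s' : K) • (w' : V) := by
      rw [← hΦ (w, s), ← hΦ (w', s'), h]
    have h2 : (w' : V) = (((s'⁻¹ : Kˣ) : K) * s) • (w : V) := by
      rw [mul_smul, h1, smul_smul, Units.inv_mul, one_smul]
    have h3 : w' = w := Subtype.ext (hX _ w.2.1 _ w'.2.1 _ h2)
    rw [h3] at h1
    have h4 : (s : K) = s' := smul_left_injective K (hX0 _ w.2.1) h1
    exact Prod.ext h3.symm (Units.ext h4)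
  have h2 := Nat.card_le_card_of_injective Φ hinj
  rw [Nat.card_prod, Nat.card_sigma] at h2
  have h3 : ∑ μ : Kˣ, Nat.card {v : V // g v = (μ : K) • v} ≤ Nat.card Kˣ * m := by
    refine (Finset.sum_le_card_nsmul _ _ m fun μ _ => ?_).trans (le_of_eq ?_)
    · have h4 := semi_fix hadd hsm ht μ.ne_zero
      by_contra hcon
      have h5 : m < Nat.card {v : V // g v = (μ : K) • v} := by omega
      have h6 := Nat.mul_lt_mul'' h5 h5
      omega
    · rw [Finset.card_univ, smul_eq_mul, Nat.card_eq_fintype_card]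
  have h4 : 0 < Nat.card Kˣ := Nat.card_pos
  have h5 := h2.trans h3
  rw [mul_comm] at h5
  exact Nat.le_of_mul_le_mul_left h5 h4

/-- the eigenvectors of a linear bijection with scalar square -/
theorem card_eig_le [Finite K] [Module.Finite K V] (y : R K V) {c : K} (hc : y * y = c • (1 : R K V)) {k : ℕ}
    (hk : ∀ l : K, Module.finrank K (Module.End.eigenspace y l) ≤ k) :
    Nat.card {w : V // w ≠ 0 ∧ ∃ l : K, y w = l • w} ≤ 2 * Nat.card K ^ k := by
  classical
  have hfinV : Finite V := Module.finite_of_finite K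
  have hE : ∀ l : K, Nat.card (Module.End.eigenspace y l) ≤ Nat.card K ^ k := by
    intro l
    rw [Module.natCard_eq_pow_finrank (K := K)]
    exact Nat.pow_le_pow_right Nat.card_pos (hk l)
  by_cases hne : Nonempty {w : V // w ≠ 0 ∧ ∃ l : K, y w = l • w}
  swap
  · rw [not_nonempty_iff] at hne
    rw [Nat.card_of_isEmpty]
    exact Nat.zero_le _
  obtain ⟨w₀, hw₀, l₀, hl₀⟩ := hne
  have hsq : ∀ (w : V) (l : K), w ≠ 0 → y w = l • w → l * l = c := by
    intro w l hw hl
    have h1 := LinearMap.congr_fun hc w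
    rw [Module.End.mul_apply, hl, map_smul, hl, smul_smul, LinearMap.smul_apply, Module.End.one_apply] at h1
    exact smul_left_injective K hw h1
  have hcase : ∀ w : {w : V // w ≠ 0 ∧ ∃ l : K, y w = l • w},
      (w : V) ∈ Module.End.eigenspace y l₀ ∨ (w : V) ∈ Module.End.eigenspace y (-l₀) := by
    rintro ⟨w, hw, l, hl⟩
    have h1 : l * l = l₀ * l₀ := (hsq w l hw hl).trans (hsq w₀ l₀ hw₀ hl₀).symm
    rcases mul_self_eq_mul_self_iff.1 h1 with h2 | h2
    · left; rw [Module.End.mem_eigenspace_iff, ← h2]; exact hl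
    · right; rw [Module.End.mem_eigenspace_iff, ← h2]; exact hl
  let Φ : {w : V // w ≠ 0 ∧ ∃ l : K, y w = l • w} → (Module.End.eigenspace y l₀) ⊕ (Module.End.eigenspace y (-l₀)) :=
    fun w => if h : (w : V) ∈ Module.End.eigenspace y l₀ then Sum.inl ⟨w, h⟩
      else Sum.inr ⟨w, (hcase w).resolve_left h⟩
  have hinj : Function.Injective Φ := by
    intro w w' h
    simp only [Φ] at h
    split_ifs at h with h1 h2 h2
    · have h5 := Sum.inl.inj h
      rw [Subtype.mk.injEq] at h5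
      have h6 : (w : V) = w' := h5
      exact Subtype.ext h6
    · have h5 := Sum.inr.inj h
      rw [Subtype.mk.injEq] at h5
      have h6 : (w : V) = w' := h5
      exact Subtype.ext h6
  have h2 := Nat.card_le_card_of_injective Φ hinj
  rw [Nat.card_sum] at h2
  have := hE l₀
  have := hE (-l₀)
  omega

end Cfsg.Agent.H563.FC
end
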