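import Cfsg.Agent.H198.FC.Defs
import Cfsg.Agent.H277.FC.SN
set_option linter.all false

/-!
# S5764, extraspecial type normalizers: common lemmas (helper563)

`Hat A` the units `x` of `R` with `cj x ∈ A`.  `C6Data S A r a`: every non-scalar `h ∈ Hat A` has a conjugate `ζ h`,
`ζ ≠ 1`, `ζ ^ r = 1` (`exists_conj`), the eigenspaces of `h` have dimension at most `n / r` (`eig_le`), and an element `g`
normalizing `A` with `rank (g - 1) ≤ 2` is trivial if `n = 7` or `n ≥ 9` (`rank_two`).
-/

set_option autoImplicit false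

namespace Cfsg.Agent.H563.FC

open Cfsg.Agent.H198.FC Cfsg.Agent.H277.FC

universe u v

variable {K : Type u} [Field K] {V : Type v} [AddCommGroup V] [Module K V]

/-- the preimage of `A` in the units of `R` -/
def Hat (A : Subgroup (Equiv.Perm (R K V))) : Subgroup (R K V)ˣ := A.comap (cj K V)

theorem mem_Hat {A : Subgroup (Equiv.Perm (R K V))} {x : (R K V)ˣ} : x ∈ Hat A ↔ cj K V x ∈ A := Iff.rfl

/-- `x` is a homothety -/
def Scal (x : (R K V)ˣ) : Prop := ∃ c : K, (x : R K V) = c • (1 : R K V)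

theorem Scal.comm {x : (R K V)ˣ} (h : Scal x) (Y : R K V) : (x : R K V) * Y = Y * x := by
  obtain ⟨c, hc⟩ := h
  rw [hc, smul_one_comm]

theorem cj_of_scal {x : (R K V)ˣ} (h : Scal x) : cj K V x = 1 := by
  apply Equiv.ext
  intro X
  rw [cj_apply, h.comm X, mul_assoc, Units.mul_inv, mul_one]
  rfl

theorem scal_of_cj [Nontrivial V] {x : (R K V)ˣ} (h : cj K V x = 1) : Scal x := by
  apply exists_smul_one
  intro Y
  have h1 : cj K V x Y = Y := by rw [h]; rfl
  rw [cj_apply] at h1
  calc (x : R K V) * Y = x * Y * ((x⁻¹ : (R K V)ˣ) : R K V) * x := by rw [mul_assoc _ _ (x : R K V), Units.inv_mul, mul_one]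
    _ = Y * x := by rw [h1]

theorem cj_eq_one [Nontrivial V] {x : (R K V)ˣ} : cj K V x = 1 ↔ Scal x := ⟨scal_of_cj, cj_of_scal⟩

/-- equality of conjugations -/
theorem cj_eq [Nontrivial V] {x y : (R K V)ˣ} (h : cj K V x = cj K V y) :
    ∃ c : K, c ≠ 0 ∧ (x : R K V) = c • (y : R K V) := by
  have h1 : cj K V (x * y⁻¹) = 1 := by rw [map_mul, map_inv, h, mul_inv_cancel]
  obtain ⟨c, hc⟩ := scal_of_cj h1
  have h2 : (x : R K V) = c • (y : R K V) := by
    have h3 : (x : R K V) = ((x * y⁻¹ : (R K V)ˣ) : R K V) * y := by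
      rw [← Units.val_mul, inv_mul_cancel_right]
    rw [h3, hc, smul_mul_assoc, one_mul]
  refine ⟨c, ?_, h2⟩
  rintro rfl
  rw [zero_smul] at h2
  exact x.ne_zero h2

/-- the homothety with factor `c` as a unit of `R` -/
def scU (c : K) (hc : c ≠ 0) : (R K V)ˣ where
  val := c • 1
  inv := c⁻¹ • 1
  val_inv := by rw [smul_mul_smul_comm, mul_inv_cancel₀ hc, one_smul, one_mul]
  inv_val := by rw [smul_mul_smul_comm, inv_mul_cancel₀ hc, one_smul, one_mul]

theorem scal_scU (c : K) (hc : c ≠ 0) : Scal (scU (V := V) c hc) := ⟨c, rfl⟩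

theorem scU_mem_Hat (A : Subgroup (Equiv.Perm (R K V))) (c : K) (hc : c ≠ 0) : scU c hc ∈ Hat A := by
  rw [mem_Hat, cj_of_scal (scal_scU c hc)]
  exact one_mem _

section dat

variable {S A : Subgroup (Equiv.Perm (R K V))} {r a : ℕ}

theorem finrank_pos_of (h : C6Data S A r a) : 0 < Module.finrank K V := by
  rw [h.2.2.1]
  exact pow_pos h.1.pos _

theorem finite_of (h : C6Data S A r a) : Module.Finite K V := Module.finite_of_finrank_pos (finrank_pos_of h)

theorem nontrivial_of (h : C6Data S A r a) : Nontrivial V := Module.nontrivial_of_finrank_pos (finrank_pos_of h)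

theorem one_lt_finrank (h : C6Data S A r a) : 1 < Module.finrank K V := by
  rw [h.2.2.1]
  exact Nat.one_lt_pow (by have := h.2.1; omega) h.1.one_lt

/-- two elements of `Hat A` commute up to a scalar -/
theorem comm_smul (h : C6Data S A r a) {x y : (R K V)ˣ} (hx : x ∈ Hat A) (hy : y ∈ Hat A) :
    ∃ c : K, c ≠ 0 ∧ (x : R K V) * y = c • ((y : R K V) * x) := by
  have := nontrivial_of h
  have h1 := h.2.2.2.2.2.2.2.1 _ hx _ hy
  rw [← map_mul, ← map_mul] at h1
  exact cj_eq h1

/-- an element commuting with `Hat A` is central -/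
theorem central_of_comm (h : C6Data S A r a) (X : R K V) (hX : ∀ b ∈ Hat A, X * (b : R K V) = b * X) (Y : R K V) :
    X * Y = Y * X := by
  have hY : Y ∈ Submodule.span K {X : R K V | ∃ x : (R K V)ˣ, (x : R K V) = X ∧ cj K V x ∈ A} := by
    rw [h.2.2.2.2.2.2.2.2.1]
    trivial
  induction hY using Submodule.span_induction with
  | mem Z hZ =>
    obtain ⟨x, rfl, hx⟩ := hZ
    exact hX x hx
  | zero => rw [mul_zero, zero_mul]
  | add Y Z _ _ hY hZ => rw [mul_add, add_mul, hY, hZ]
  | smul c Y _ hY => rw [mul_smul_comm, smul_mul_assoc, hY]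

/-- `b ^ r` is a scalar -/
theorem pow_scal (h : C6Data S A r a) {b : (R K V)ˣ} (hb : b ∈ Hat A) : Scal (b ^ r) := by
  have := nontrivial_of h
  apply scal_of_cj
  rw [map_pow]
  exact h.2.2.2.2.2.2.1 _ hb

theorem smul_pow_comm {x b : R K V} {c : K} (h : x * b = c • (b * x)) (k : ℕ) : x * b ^ k = c ^ k • (b ^ k * x) := by
  induction k with
  | zero => simp
  | succ k ih =>
    rw [pow_succ, ← mul_assoc, ih, smul_mul_assoc, mul_assoc, h, mul_smul_comm, smul_smul, pow_succ, mul_assoc]

/-- **non-degeneracy** -/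
theorem exists_conj (h : C6Data S A r a) {x : (R K V)ˣ} (hx : x ∈ Hat A) (hns : ¬ Scal x) :
    ∃ b ∈ Hat A, ∃ c : K, c ≠ 1 ∧ c ^ r = 1 ∧ (x : R K V) * b = c • ((b : R K V) * x) := by
  have := nontrivial_of h
  by_contra hcon
  push Not at hcon
  apply hns
  apply exists_smul_one
  apply central_of_comm h
  intro b hb
  obtain ⟨c, hc, hxb⟩ := comm_smul h hx hb
  by_cases h1 : c = 1
  · rw [hxb, h1, one_smul]
  exfalso
  refine hcon b hb c h1 ?_ hxb
  have h2 := smul_pow_comm hxb r
  obtain ⟨d, hd⟩ := pow_scal h hb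
  rw [Units.val_pow_eq_pow_val] at hd
  rw [hd, smul_one_comm d (x : R K V)] at h2
  have h3 : (d • (1 : R K V)) * x ≠ 0 := by
    rw [← hd, ← Units.val_pow_eq_pow_val, ← Units.val_mul]
    exact Units.ne_zero _
  have h4 : ((1 : K) - c ^ r) • ((d • (1 : R K V)) * (x : R K V)) = 0 := by
    rw [sub_smul, one_smul, smul_one_comm d (x : R K V), ← h2, sub_self]
  rcases smul_eq_zero.1 h4 with h5 | h5
  · exact (sub_eq_zero.1 h5).symm
  · exact absurd h5 h3

/-- **the eigenspaces of a non-scalar element of `Hat A` have dimension at most `n / r`** -/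
theorem eig_le (h : C6Data S A r a) {x : (R K V)ˣ} (hx : x ∈ Hat A) (hns : ¬ Scal x) (c : K) :
    r * Module.finrank K ↥(Module.End.eigenspace (x : R K V) c) ≤ Module.finrank K V := by
  have := nontrivial_of h
  have := finite_of h
  obtain ⟨b, hb, z, hz1, hzr, hxb⟩ := exists_conj h hx hns
  by_cases hc : c = 0
  · have h0 : Module.End.eigenspace (x : R K V) c = ⊥ := by
      rw [eq_bot_iff]
      intro v hv
      rw [Module.End.mem_eigenspace_iff, hc, zero_smul] at hv
      have h1 : ((x⁻¹ : (R K V)ˣ) : R K V) ((x : R K V) v) = v := by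
        rw [← Module.End.mul_apply, Units.inv_mul]
        rfl
      rw [hv, map_zero] at h1
      rw [← h1]
      exact Submodule.zero_mem _
    rw [h0]
    simp
  have hz0 : z ≠ 0 := by
    rintro rfl
    rw [zero_pow h.1.ne_zero] at hzr
    exact zero_ne_one hzr
  have hord : orderOf z = r := orderOf_eq_prime hzr hz1 (hp := ⟨h.1⟩)
  have hinj : Function.Injective fun i : Fin r => z ^ (i : ℕ) * c := by
    intro i j hij
    have h1 : z ^ (i : ℕ) = z ^ (j : ℕ) := mul_right_cancel₀ hc hij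
    apply Fin.ext
    exact pow_injOn_Iio_orderOf (by rw [hord]; exact i.2) (by rw [hord]; exact j.2) h1
  have hind : iSupIndep fun i : Fin r => Module.End.eigenspace (x : R K V) (z ^ (i : ℕ) * c) :=
    (Module.End.eigenspaces_iSupIndep (x : R K V)).comp hinj
  have hmap : ∀ (i : ℕ) (v : V), v ∈ Module.End.eigenspace (x : R K V) c →
      ((b : R K V) ^ i) v ∈ Module.End.eigenspace (x : R K V) (z ^ i * c) := by
    intro i v hv
    rw [Module.End.mem_eigenspace_iff] at hv ⊢
    have h1 := LinearMap.congr_fun (smul_pow_comm hxb i) v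
    rw [Module.End.mul_apply, LinearMap.smul_apply, Module.End.mul_apply, hv, map_smul, smul_smul] at h1
    exact h1
  let Φ : (Fin r → Module.End.eigenspace (x : R K V) c) →ₗ[K] V :=
    LinearMap.lsum K (fun _ : Fin r => Module.End.eigenspace (x : R K V) c) K
      (fun i => ((b : R K V) ^ (i : ℕ)).comp (Submodule.subtype _))
  have hΦ : ∀ f, Φ f = ∑ i : Fin r, ((b : R K V) ^ (i : ℕ)) (f i : V) := by
    intro f
    simp only [Φ, LinearMap.lsum_apply, LinearMap.sum_apply, LinearMap.comp_apply, LinearMap.proj_apply,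
      Submodule.subtype_apply]
  have hker : LinearMap.ker Φ = ⊥ := by
    rw [LinearMap.ker_eq_bot']
    intro f hf
    rw [hΦ] at hf
    have h2 := (iSupIndep_iff_finsetSum_eq_zero_imp_eq_zero _).1 hind Finset.univ
      (fun i => ((b : R K V) ^ (i : ℕ)) (f i : V)) (fun i _ => hmap i _ (f i).2) hf
    funext i
    apply Subtype.ext
    have h3 := h2 i (Finset.mem_univ _)
    have h4 : (((b ^ (i : ℕ))⁻¹ : (R K V)ˣ) : R K V) (((b : R K V) ^ (i : ℕ)) (f i : V)) = (f i : V) := by
      rw [← Module.End.mul_apply, ← Units.val_pow_eq_pow_val, Units.inv_mul]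
      rfl
    rw [h3, map_zero] at h4
    exact h4.symm
  have h5 := LinearMap.finrank_le_finrank_of_injective (LinearMap.ker_eq_bot.1 hker)
  rwa [Module.finrank_pi_fintype, Finset.sum_const, Finset.card_univ, Fintype.card_fin, smul_eq_mul] at h5

/-! ### elements of small rank normalizing `A` -/

theorem comm_mem {g : (R K V)ˣ} (hg : ∀ f ∈ A, cj K V g * f * (cj K V g)⁻¹ ∈ A) {b : (R K V)ˣ} (hb : b ∈ Hat A) :
    g * b * g⁻¹ * b⁻¹ ∈ Hat A := by
  rw [mem_Hat, map_mul, map_mul, map_mul, map_inv, map_inv]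
  exact mul_mem (hg _ hb) (inv_mem hb)

theorem mem_range_comm (g b : (R K V)ˣ) (v : V) :
    ∃ u ∈ LinearMap.range ((g : R K V) - 1), ∃ u' ∈ LinearMap.range ((g : R K V) - 1),
      (((g * b * g⁻¹ * b⁻¹ : (R K V)ˣ) : R K V) - 1) v = u - (b : R K V) u' := by
  have h1 : (((g * b * g⁻¹ * b⁻¹ : (R K V)ˣ) : R K V) - 1) =
      (((g : R K V) - 1) * b - b * ((g : R K V) - 1)) * (((g⁻¹ * b⁻¹ : (R K V)ˣ)) : R K V) := by
    have h2 : (b : R K V) * (g : R K V) * (((g⁻¹ * b⁻¹ : (R K V)ˣ)) : R K V) = 1 := by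
      rw [← Units.val_mul, ← Units.val_mul]
      rw [show b * g * (g⁻¹ * b⁻¹) = 1 by group]
      rfl
    have h3 : (g : R K V) * (b : R K V) * (((g⁻¹ * b⁻¹ : (R K V)ˣ)) : R K V) =
        ((g * b * g⁻¹ * b⁻¹ : (R K V)ˣ) : R K V) := by
      rw [← Units.val_mul, ← Units.val_mul, ← mul_assoc]
    have h4 : ((g : R K V) - 1) * b - b * ((g : R K V) - 1) = g * b - b * g := by
      rw [sub_mul, mul_sub, one_mul, mul_one]
      abel
    rw [h4, sub_mul, h3, h2]
  rw [h1]
  set w := ((((g⁻¹ * b⁻¹ : (R K V)ˣ)) : R K V)) v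
  refine ⟨((g : R K V) - 1) ((b : R K V) w), LinearMap.mem_range_self _ _, ((g : R K V) - 1) w,
    LinearMap.mem_range_self _ _, rfl⟩

/-- `[g, b]` has a large fixed space -/
theorem fix_large [Module.Finite K V] (g b : (R K V)ˣ) {k : ℕ}
    (hk : Module.finrank K (LinearMap.range ((g : R K V) - 1)) ≤ k) :
    Module.finrank K V ≤
      Module.finrank K ↥(Module.End.eigenspace (((g * b * g⁻¹ * b⁻¹ : (R K V)ˣ)) : R K V) 1) + 2 * k := by
  set h : R K V := (((g * b * g⁻¹ * b⁻¹ : (R K V)ˣ)) : R K V) with hdef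
  have h1 := LinearMap.finrank_range_add_finrank_ker (h - 1)
  have h2 : Module.End.eigenspace h 1 = LinearMap.ker (h - 1) := by
    rw [Module.End.eigenspace_def, one_smul]
  rw [h2]
  set U := LinearMap.range ((g : R K V) - 1)
  have h3 : LinearMap.range (h - 1) ≤ U ⊔ U.map (b : R K V) := by
    rintro _ ⟨v, rfl⟩
    obtain ⟨u, hu, u', hu', he⟩ := mem_range_comm g b v
    rw [he]
    exact Submodule.sub_mem _ (Submodule.mem_sup_left hu) (Submodule.mem_sup_right (Submodule.mem_map_of_mem hu'))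
  have h4 := Submodule.finrank_mono h3
  have h5 := Submodule.finrank_add_le_finrank_add_finrank U (U.map (b : R K V))
  have h6 := Submodule.finrank_map_le (b : R K V) U
  omega

/-- an element `g` normalizing `A` with all `[g, b]` scalar and with a large fixed space is trivial -/
theorem eq_one_of_comm (h : C6Data S A r a) {g : (R K V)ˣ} {k : ℕ}
    (hk : Module.finrank K (LinearMap.range ((g : R K V) - 1)) ≤ k) (h1 : 2 * k < Module.finrank K V)
    (hs : ∀ b ∈ Hat A, Scal (g * b * g⁻¹ * b⁻¹)) : g = 1 := by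
  have := nontrivial_of h
  have := finite_of h
  have hcomm : ∀ b ∈ Hat A, (g : R K V) * b = b * g := by
    intro b hb
    obtain ⟨c, hc⟩ := hs b hb
    have h2 := fix_large g b hk
    have h3 : c = 1 := by
      have h4 : 0 < Module.finrank K ↥(Module.End.eigenspace (((g * b * g⁻¹ * b⁻¹ : (R K V)ˣ)) : R K V) 1) := by
        omega
      haveI := Module.nontrivial_of_finrank_pos h4
      obtain ⟨⟨v, hv⟩, hv0⟩ := exists_ne (0 : ↥(Module.End.eigenspace (((g * b * g⁻¹ * b⁻¹ : (R K V)ˣ)) : R K V) 1))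
      rw [Module.End.mem_eigenspace_iff, hc, one_smul, LinearMap.smul_apply, Module.End.one_apply] at hv
      have h5 : (c - 1) • v = 0 := by rw [sub_smul, one_smul, hv, sub_self]
      rcases smul_eq_zero.1 h5 with h6 | h6
      · exact sub_eq_zero.1 h6
      · exact absurd (Subtype.ext h6) hv0
    rw [h3, one_smul] at hc
    have h7 : g * b * g⁻¹ * b⁻¹ = 1 := Units.ext hc
    have h8 : g * b = b * g := by
      calc g * b = g * b * g⁻¹ * b⁻¹ * (b * g) := by group
        _ = b * g := by rw [h7, one_mul]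
    exact congrArg Units.val h8
  obtain ⟨c, hc⟩ := exists_smul_one (g : R K V) (central_of_comm h _ hcomm)
  by_contra hne
  have hc1 : c - 1 ≠ 0 := by
    intro h9
    apply hne
    apply Units.ext
    rw [hc, sub_eq_zero.1 h9, one_smul]
    rfl
  have h10 : LinearMap.range ((g : R K V) - 1) = ⊤ := by
    rw [LinearMap.range_eq_top]
    intro v
    refine ⟨(c - 1)⁻¹ • v, ?_⟩
    rw [hc]
    show (c • ((c - 1)⁻¹ • v)) - (c - 1)⁻¹ • v = v
    rw [smul_smul, ← sub_smul]
    have h11 : c * (c - 1)⁻¹ - (c - 1)⁻¹ = 1 := by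
      rw [← sub_one_mul, mul_inv_cancel₀ hc1]
    rw [h11, one_smul]
  rw [h10, finrank_top] at hk
  omega

/-- **(R)** -/
theorem eq_one_of_rank (h : C6Data S A r a) {g : (R K V)ˣ} (hg : ∀ f ∈ A, cj K V g * f * (cj K V g)⁻¹ ∈ A) {k : ℕ}
    (hk : Module.finrank K (LinearMap.range ((g : R K V) - 1)) ≤ k) (h1 : 2 * k < Module.finrank K V)
    (h2 : Module.finrank K V < r * (Module.finrank K V - 2 * k)) : g = 1 := by
  have := finite_of h
  refine eq_one_of_comm h hk h1 fun b hb => ?_
  by_contra hns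
  have h3 := eig_le h (comm_mem hg hb) hns 1
  have h4 := fix_large g b hk
  have h5 : r * (Module.finrank K V - 2 * k) ≤
      r * Module.finrank K ↥(Module.End.eigenspace (((g * b * g⁻¹ * b⁻¹ : (R K V)ˣ)) : R K V) 1) :=
    Nat.mul_le_mul_left _ (by omega)
  omega

/-- **an element normalizing `A` with `rank (g - 1) ≤ 2` is trivial if `n = 7` or `n ≥ 9`** -/
theorem rank_two (h : C6Data S A r a) {g : (R K V)ˣ} (hg : ∀ f ∈ A, cj K V g * f * (cj K V g)⁻¹ ∈ A)
    (hk : Module.finrank K (LinearMap.range ((g : R K V) - 1)) ≤ 2)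
    (hn : Module.finrank K V = 7 ∨ 9 ≤ Module.finrank K V) : g = 1 := by
  refine eq_one_of_rank h hg hk (by omega) ?_
  have hn' := h.2.2.1
  have hr := h.1
  have ha := h.2.1
  rcases Nat.lt_or_ge r 3 with h3 | h3
  · have hr2 : r = 2 := by have := hr.two_le; omega
    subst hr2
    rcases hn with h7 | h9
    · exfalso
      rw [h7] at hn'
      obtain ⟨a', rfl⟩ : ∃ a', a = a' + 1 := ⟨a - 1, by omega⟩
      rw [pow_succ] at hn'
      omega
    · omega
  · have h4 : 3 * (Module.finrank K V - 2 * 2) ≤ r * (Module.finrank K V - 2 * 2) := Nat.mul_le_mul_right _ h3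
    omega

/-- **a transvection normalizing `A` is trivial if `n ≥ 5`** -/
theorem rank_one (h : C6Data S A r a) {g : (R K V)ˣ} (hg : ∀ f ∈ A, cj K V g * f * (cj K V g)⁻¹ ∈ A)
    (hk : Module.finrank K (LinearMap.range ((g : R K V) - 1)) ≤ 1) (hn : 5 ≤ Module.finrank K V) : g = 1 := by
  refine eq_one_of_rank h hg hk (by omega) ?_
  have h4 : 2 * (Module.finrank K V - 2 * 1) ≤ r * (Module.finrank K V - 2 * 1) :=
    Nat.mul_le_mul_right _ h.1.two_le
  omega

/-! ### the centralizer of `A` -/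

/-- the elements of `IN` centralizing `A` lie in `A` -/
theorem mem_of_comm (h : C6Data S A r a) {y : (R K V)ˣ} (hy : ∀ f ∈ A, cj K V y * f = f * cj K V y) :
    cj K V y ∈ A := by
  classical
  have := nontrivial_of h
  have := finite_of h
  have hfin : Finite A := Nat.finite_of_card_ne_zero (by
    rw [h.2.2.2.2.2.1]; exact pow_ne_zero _ h.1.ne_zero)
  have := Fintype.ofFinite A
  have hlift : ∀ f : A, ∃ x : (R K V)ˣ, cj K V x = f := fun f => h.2.2.2.2.1 f.2
  choose s hs using hlift
  have hspan : ⊤ ≤ Submodule.span K (Set.range fun f : A => ((s f : (R K V)ˣ) : R K V)) := by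
    rw [← h.2.2.2.2.2.2.2.2.1, Submodule.span_le]
    rintro _ ⟨x, rfl, hx⟩
    obtain ⟨c, -, hc⟩ := cj_eq (x := x) (y := s ⟨_, hx⟩) (hs ⟨_, hx⟩).symm
    rw [SetLike.mem_coe, hc]
    exact Submodule.smul_mem _ _ (Submodule.subset_span ⟨_, rfl⟩)
  have hcard : Fintype.card A = Module.finrank K (R K V) := by
    rw [← Nat.card_eq_fintype_card, h.2.2.2.2.2.1, Module.finrank_linearMap, h.2.2.1, ← pow_add, two_mul]
  have hli : LinearIndependent K fun f : A => ((s f : (R K V)ˣ) : R K V) :=
    linearIndependent_of_top_le_span_of_card_eq_finrank hspan hcard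
  let B := Module.Basis.mk hli hspan
  have hB : ∀ f, B f = ((s f : (R K V)ˣ) : R K V) := fun f => by rw [Module.Basis.mk_apply]
  have hsum : (y : R K V) = ∑ f : A, B.repr y f • ((s f : (R K V)ˣ) : R K V) := by
    conv_lhs => rw [← B.sum_repr (y : R K V)]
    simp only [hB]
  -- the characters
  have hsmem : ∀ f : A, s f ∈ Hat A := fun f => by rw [mem_Hat, hs]; exact f.2
  have key : ∀ b ∈ Hat A, ∃ z : K, ∀ f : A, B.repr y f ≠ 0 →
      (b : R K V) * ((s f : (R K V)ˣ) : R K V) = z • (((s f : (R K V)ˣ) : R K V) * b) := by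
    intro b hb
    have h1 := hy _ hb
    rw [← map_mul, ← map_mul] at h1
    obtain ⟨z, hz, h2⟩ := cj_eq h1.symm
    rw [Units.val_mul, Units.val_mul] at h2
    refine ⟨z, ?_⟩
    have h3 : ∀ f : A, ∃ c : K, c ≠ 0 ∧ (b : R K V) * (s f : (R K V)ˣ) = c • (((s f : (R K V)ˣ) : R K V) * b) :=
      fun f => comm_smul h hb (hsmem f)
    choose c hc0 hc using h3
    have h4 : ∑ f : A, (B.repr y f * c f - z * B.repr y f) • ((s f : (R K V)ˣ) : R K V) = 0 := by
      have h5 : (∑ f : A, (B.repr y f * c f - z * B.repr y f) • ((s f : (R K V)ˣ) : R K V)) * (b : R K V) = 0 := by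
        have e1 : (b : R K V) * y = ∑ f : A, (B.repr y f * c f) • (((s f : (R K V)ˣ) : R K V) * b) := by
          conv_lhs => rw [hsum]
          rw [Finset.mul_sum]
          refine Finset.sum_congr rfl fun f _ => ?_
          rw [mul_smul_comm, hc, smul_smul]
        have e2 : z • ((y : R K V) * b) = ∑ f : A, (z * B.repr y f) • (((s f : (R K V)ˣ) : R K V) * b) := by
          conv_lhs => rw [hsum]
          rw [Finset.sum_mul, Finset.smul_sum]
          refine Finset.sum_congr rfl fun f _ => ?_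
          rw [smul_mul_assoc, smul_smul]
        rw [Finset.sum_mul]
        have e3 : ∀ f : A, ((B.repr y f * c f - z * B.repr y f) • ((s f : (R K V)ˣ) : R K V)) * (b : R K V) =
            (B.repr y f * c f) • (((s f : (R K V)ˣ) : R K V) * b) -
              (z * B.repr y f) • (((s f : (R K V)ˣ) : R K V) * b) := fun f => by
          rw [smul_mul_assoc, sub_smul]
        rw [Finset.sum_congr rfl fun f _ => e3 f, Finset.sum_sub_distrib, ← e1, ← e2, h2, sub_self]
      calc _ = (∑ f : A, (B.repr y f * c f - z * B.repr y f) • ((s f : (R K V)ˣ) : R K V)) * (b : R K V) *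
            ((b⁻¹ : (R K V)ˣ) : R K V) := by rw [mul_assoc, Units.mul_inv, mul_one]
        _ = 0 := by rw [h5, zero_mul]
    intro f hf
    have h6 := Fintype.linearIndependent_iff.1 hli _ h4 f
    have h7 : c f = z := by
      have : B.repr y f * (c f - z) = 0 := by rw [← h6]; ring
      rcases mul_eq_zero.1 this with h8 | h8
      · exact absurd h8 hf
      · exact sub_eq_zero.1 h8
    rw [hc, h7]
  -- some coefficient is not zero
  obtain ⟨f, hf⟩ : ∃ f : A, B.repr y f ≠ 0 := by
    by_contra hcon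
    push Not at hcon
    apply y.ne_zero
    rw [hsum]
    exact Finset.sum_eq_zero fun f _ => by rw [hcon, zero_smul]
  have huniq : ∀ f' : A, B.repr y f' ≠ 0 → f' = f := by
    intro f' hf'
    have h1 : Scal (s f' * (s f)⁻¹) := by
      apply exists_smul_one
      apply central_of_comm h
      intro b hb
      obtain ⟨z, hz⟩ := key b hb
      have e1 := hz f hf
      have e2 := hz f' hf'
      have hz0 : z ≠ 0 := by
        rintro rfl
        rw [zero_smul, ← Units.val_mul] at e1
        exact Units.ne_zero _ e1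
      -- s f' s f⁻¹ b = b s f' s f⁻¹
      have e3 : (b : R K V) * ((s f' : (R K V)ˣ) : R K V) * (((s f)⁻¹ : (R K V)ˣ) : R K V) =
          z • (((s f' : (R K V)ˣ) : R K V) * b * (((s f)⁻¹ : (R K V)ˣ) : R K V)) := by
        rw [e2, smul_mul_assoc]
      have e4 : z • ((b : R K V) * (((s f)⁻¹ : (R K V)ˣ) : R K V)) = (((s f)⁻¹ : (R K V)ˣ) : R K V) * b := by
        have : (((s f)⁻¹ : (R K V)ˣ) : R K V) * ((b : R K V) * ((s f : (R K V)ˣ) : R K V)) *
            (((s f)⁻¹ : (R K V)ˣ) : R K V) = (((s f)⁻¹ : (R K V)ˣ) : R K V) *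
            (z • (((s f : (R K V)ˣ) : R K V) * b)) * (((s f)⁻¹ : (R K V)ˣ) : R K V) := by rw [e1]
        rw [mul_assoc, mul_assoc, Units.mul_inv, mul_one, mul_smul_comm, ← mul_assoc, Units.inv_mul, one_mul,
          smul_mul_assoc] at this
        exact this.symm
      rw [Units.val_mul, mul_assoc, ← e4, mul_smul_comm, ← mul_assoc, ← e3, mul_assoc]
    have h2 := cj_of_scal h1
    rw [map_mul, map_inv, hs, hs] at h2
    exact Subtype.ext (mul_inv_eq_one.1 h2)
  have h8 : (y : R K V) = B.repr y f • ((s f : (R K V)ˣ) : R K V) := by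
    conv_lhs => rw [hsum]
    rw [Finset.sum_eq_single f]
    · intro f' _ hne
      by_contra h0
      apply hne
      apply huniq
      intro h9
      apply h0
      rw [h9, zero_smul]
    · intro h0
      exact absurd (Finset.mem_univ _) h0
  have h9 : cj K V y = cj K V (s f) := by
    generalize B.repr (y : R K V) f = c at h8
    have h10 : Scal (y * (s f)⁻¹) := ⟨c, by
      rw [Units.val_mul, h8, smul_mul_assoc, Units.mul_inv]⟩
    have h11 := cj_of_scal h10
    rw [map_mul, map_inv] at h11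
    exact mul_inv_eq_one.1 h11
  rw [h9, hs]
  exact f.2

end dat

end Cfsg.Agent.H563.FC
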