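import Cfsg.Agent.H563.FC.Rank
import Cfsg.Agent.H706.FC.Tv
import Mathlib
set_option linter.all false

-- part: H563/FC/Sig
section
/-!
# S5764: the field automorphism of an element of `RP` (helper563)
-/

set_option autoImplicit false

namespace Cfsg.Agent.H563.FC

open Cfsg.Agent.H198.FC Cfsg.Agent.H277.FC

universe u v

variable {K : Type u} [Field K] {V : Type v} [AddCommGroup V] [Module K V]

/-- `f` acts on the homotheties as `σ` -/
def HasSig (f : Equiv.Perm (R K V)) (σ : K ≃+* K) : Prop := ∀ a : K, f (a • 1) = σ a • 1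

theorem exists_sig [Nontrivial V] {f : Equiv.Perm (R K V)} (hf : f ∈ RP K V) : ∃ σ : K ≃+* K, HasSig f σ := by
  let F : Module.End K V ≃+* Module.End K V :=
    { f with
      map_mul' := hf.2
      map_add' := hf.1 }
  obtain ⟨σ, hσ⟩ := exists_sigma F
  exact ⟨σ, hσ⟩

theorem HasSig.smul {f : Equiv.Perm (R K V)} (hf : f ∈ RP K V) {σ : K ≃+* K} (h : HasSig f σ) (a : K) (X : R K V) :
    f (a • X) = σ a • f X := by
  have h1 : a • X = (a • (1 : R K V)) * X := by rw [smul_mul_assoc, one_mul]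
  rw [h1, hf.2, h, smul_mul_assoc, one_mul]

theorem HasSig.mul {f g : Equiv.Perm (R K V)} (hf : f ∈ RP K V) {σ ρ : K ≃+* K} (h : HasSig f σ) (h' : HasSig g ρ) :
    HasSig (f * g) (ρ.trans σ) := by
  intro a
  show f (g (a • 1)) = σ (ρ a) • 1
  rw [h', h]

theorem HasSig.inv {f : Equiv.Perm (R K V)} {σ : K ≃+* K} (h : HasSig f σ) : HasSig f⁻¹ σ.symm := by
  intro a
  apply f.injective
  rw [h, RingEquiv.apply_symm_apply]
  exact f.apply_symm_apply _

theorem HasSig.unique [Nontrivial V] {f : Equiv.Perm (R K V)} {σ ρ : K ≃+* K} (h : HasSig f σ) (h' : HasSig f ρ) :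
    σ = ρ := by
  ext a
  exact smul_one_inj ((h a).symm.trans (h' a))

/-- `f` is induced by a `σ`-semilinear bijection -/
theorem HasSig.semi [Module.Finite K V] [Nontrivial V] {f : Equiv.Perm (R K V)} (hf : f ∈ RP K V) {σ : K ≃+* K}
    (h : HasSig f σ) : ∃ g : Equiv.Perm V, (∀ v w, g (v + w) = g v + g w) ∧ (∀ (a : K) (v : V), g (a • v) = σ a • g v) ∧
      ∀ (X : R K V) (v : V), f X (g v) = g (X v) := by
  obtain ⟨g, ⟨hadd, ρ, hρ⟩, hg⟩ := stmtSN K V Module.finrank_pos f hf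
  refine ⟨g, hadd, fun a v => ?_, hg⟩
  have h1 := hg (a • 1) v
  rw [h a] at h1
  exact h1.symm

/-- `f` is inner if `σ = 1` -/
theorem HasSig.inner [Module.Finite K V] [Nontrivial V] {f : Equiv.Perm (R K V)} (hf : f ∈ RP K V) {σ : K ≃+* K}
    (h : HasSig f σ) (h1 : ∀ a, σ a = a) : ∃ y : (R K V)ˣ, cj K V y = f := by
  obtain ⟨g, hadd, hsm, hg⟩ := h.semi hf
  let G : V ≃ₗ[K] V :=
    { g with
      map_add' := hadd
      map_smul' := fun a v => by
        show g (a • v) = a • g v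
        rw [hsm, h1] }
  let y : (R K V)ˣ :=
    { val := (G : V →ₗ[K] V)
      inv := (G.symm : V →ₗ[K] V)
      val_inv := by
        ext v
        exact G.apply_symm_apply v
      inv_val := by
        ext v
        exact G.symm_apply_apply v }
  refine ⟨y, ?_⟩
  apply Equiv.ext
  intro X
  ext v
  obtain ⟨w, rfl⟩ := g.surjective v
  rw [hg]
  show g (X (G.symm (g w))) = g (X w)
  have : G.symm (g w) = w := G.symm_apply_apply w
  rw [this]

section dat

variable {S A : Subgroup (Equiv.Perm (R K V))} {r a : ℕ}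

/-- an element of `RP` with `σ = 1` which centralizes `A` lies in `A` -/
theorem HasSig.mem_A (h : C6Data S A r a) {f : Equiv.Perm (R K V)} (hf : f ∈ RP K V) {σ : K ≃+* K}
    (hs : HasSig f σ) (h1 : ∀ a, σ a = a) (hc : ∀ c ∈ A, f * c = c * f) : f ∈ A := by
  have := nontrivial_of h
  have := finite_of h
  obtain ⟨y, hy⟩ := hs.inner hf h1
  rw [← hy] at hc ⊢
  exact mem_of_comm h hc

/-- at most `|A|` elements centralizing `A` have the same field automorphism -/
theorem card_sig_le [Finite K] (h : C6Data S A r a) (σ : K ≃+* K) :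
    Nat.card {f : Equiv.Perm (R K V) // f ∈ RP K V ∧ HasSig f σ ∧ ∀ c ∈ A, f * c = c * f} ≤ Nat.card A := by
  have := nontrivial_of h
  have := finite_of h
  have hfin : Finite (R K V) := by
    have : Module.Finite K (R K V) := inferInstance
    exact Module.finite_of_finite K
  by_cases hne : Nonempty {f : Equiv.Perm (R K V) // f ∈ RP K V ∧ HasSig f σ ∧ ∀ c ∈ A, f * c = c * f}
  · obtain ⟨f₀⟩ := hne
    refine Nat.card_le_card_of_injective (fun f => (⟨f.1 * f₀.1⁻¹, ?_⟩ : A)) ?_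
    · refine HasSig.mem_A h (mul_mem f.2.1 (inv_mem f₀.2.1)) (HasSig.mul f.2.1 f.2.2.1 f₀.2.2.1.inv) (fun a => ?_)
        (fun c hc => ?_)
      · exact σ.apply_symm_apply a
      · have h1 := f.2.2.2 c hc
        have h2 := f₀.2.2.2 c hc
        have h3 : f₀.1⁻¹ * c = c * f₀.1⁻¹ := by
          rw [inv_mul_eq_iff_eq_mul, ← mul_assoc, h2, mul_inv_cancel_right]
        rw [mul_assoc, h3, ← mul_assoc, h1, mul_assoc]
    · intro f f' hff
      have h1 : f.1 * f₀.1⁻¹ = f'.1 * f₀.1⁻¹ := congrArg Subtype.val hff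
      exact Subtype.ext (mul_right_cancel h1)
  · rw [not_nonempty_iff] at hne
    rw [Nat.card_of_isEmpty]
    exact Nat.zero_le _

end dat

/-! ### fixed points of semilinear maps -/

/-- an eigenspace of a properly semilinear bijection has at most `|V|^(1/2)` elements -/
theorem semi_fix [Finite V] {g : V → V} {σ : K ≃+* K} (hadd : ∀ v w, g (v + w) = g v + g w)
    (hsm : ∀ (a : K) (v : V), g (a • v) = σ a • g v) {t : K} (ht : σ t ≠ t) {μ : K} (hμ : μ ≠ 0) :
    Nat.card {v : V // g v = μ • v} * Nat.card {v : V // g v = μ • v} ≤ Nat.card V := by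
  rw [← Nat.card_prod]
  have hsub : ∀ v w : V, g (v - w) = g v - g w := by
    intro v w
    have h1 := hadd (v - w) w
    rw [sub_add_cancel] at h1
    rw [h1, add_sub_cancel_right]
  refine Nat.card_le_card_of_injective (fun p => (p.1 : V) + t • (p.2 : V)) ?_
  rintro ⟨⟨u, hu⟩, ⟨u', hu'⟩⟩ ⟨⟨v, hv⟩, ⟨v', hv'⟩⟩ h
  have h1 : u + t • u' = v + t • v' := h
  have h2 : t • (v' - u') = u - v := by
    rw [smul_sub, sub_eq_sub_iff_add_eq_add, add_comm, ← h1, add_comm]
  have h3 : g (v' - u') = μ • (v' - u') := by rw [hsub, hu', hv', smul_sub]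
  have h4 : g (u - v) = μ • (u - v) := by rw [hsub, hu, hv, smul_sub]
  rw [← h2, hsm, h3, smul_smul, smul_smul, ← sub_eq_zero, ← sub_smul] at h4
  have h5 : v' - u' = 0 := by
    rcases smul_eq_zero.1 h4 with h6 | h6
    · exfalso
      have h7 : μ * (σ t - t) = 0 := by rw [← h6]; ring
      rcases mul_eq_zero.1 h7 with h8 | h8
      · exact hμ h8
      · exact ht (sub_eq_zero.1 h8)
    · exact h6
  rw [h5, smul_zero] at h2
  have h6 : u = v := sub_eq_zero.1 h2.symm
  have h7 : u' = v' := (sub_eq_zero.1 h5).symm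
  subst h6 h7
  rfl

end Cfsg.Agent.H563.FC
end

-- part: H563/FC/Inv
section
/-!
# Involutions of finite fields (helper563)
-/

set_option autoImplicit false

namespace Cfsg.Agent.H563.FC

universe u

variable {K : Type u} [Field K] (τ : K ≃+* K)

/-- the fixed field -/
def K0 : Subfield K where
  carrier := {a | τ a = a}
  mul_mem' := fun {a b} ha hb => by
    show τ (a * b) = a * b
    rw [map_mul, show τ a = a from ha, show τ b = b from hb]
  one_mem' := map_one τ
  add_mem' := fun {a b} ha hb => by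
    show τ (a + b) = a + b
    rw [map_add, show τ a = a from ha, show τ b = b from hb]
  zero_mem' := map_zero τ
  neg_mem' := fun {a} ha => by
    show τ (-a) = -a
    rw [map_neg, show τ a = a from ha]
  inv_mem' := fun a ha => by
    show τ (a⁻¹) = a⁻¹
    rw [map_inv₀, show τ a = a from ha]

variable {τ}

theorem mem_K0 {a : K} : a ∈ K0 τ ↔ τ a = a := Iff.rfl

variable (hinv : ∀ a, τ (τ a) = a)

include hinv

theorem add_mem_K0 (a : K) : a + τ a ∈ K0 τ := by
  rw [mem_K0, map_add, hinv, add_comm]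

theorem mul_mem_K0 (a : K) : a * τ a ∈ K0 τ := by
  rw [mem_K0, map_mul, hinv, mul_comm]

variable {ε : K} (hε : τ ε ≠ ε)

include hε

/-- every element is `a + b ε` with `a, b` in the fixed field -/
theorem exists_decomp (x : K) : ∃ a ∈ K0 τ, ∃ b ∈ K0 τ, x = a + b * ε := by
  have h1 : ε - τ ε ≠ 0 := fun h => hε (sub_eq_zero.1 h).symm
  have h2 : τ (ε - τ ε) = - (ε - τ ε) := by rw [map_sub, hinv]; ring
  have hb : τ ((x - τ x) / (ε - τ ε)) = (x - τ x) / (ε - τ ε) := by
    rw [map_div₀, h2, map_sub, hinv, div_neg, ← neg_div]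
    congr 1
    ring
  refine ⟨x - (x - τ x) / (ε - τ ε) * ε, ?_, (x - τ x) / (ε - τ ε), hb, by ring⟩
  rw [mem_K0, map_sub, map_mul, hb]
  field_simp
  ring

theorem decomp_unique {a b a' b' : K} (ha : a ∈ K0 τ) (hb : b ∈ K0 τ) (ha' : a' ∈ K0 τ) (hb' : b' ∈ K0 τ)
    (h : a + b * ε = a' + b' * ε) : a = a' ∧ b = b' := by
  have h1 := congrArg τ h
  rw [map_add, map_add, map_mul, map_mul, mem_K0.1 ha, mem_K0.1 hb, mem_K0.1 ha', mem_K0.1 hb'] at h1
  have h2 : (b - b') * (ε - τ ε) = 0 := by linear_combination h - h1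
  have h3 : ε - τ ε ≠ 0 := fun h => hε (sub_eq_zero.1 h).symm
  have h4 : b = b' := by
    rcases mul_eq_zero.1 h2 with h5 | h5
    · exact sub_eq_zero.1 h5
    · exact absurd h5 h3
  refine ⟨?_, h4⟩
  rw [h4] at h
  exact add_right_cancel h

theorem card_K : Nat.card K = Nat.card (K0 τ) ^ 2 := by
  rw [pow_two, ← Nat.card_prod]
  symm
  refine Nat.card_congr (Equiv.ofBijective (fun p : K0 τ × K0 τ => (p.1 : K) + p.2 * ε) ⟨?_, ?_⟩)
  · rintro ⟨a, b⟩ ⟨a', b'⟩ h
    obtain ⟨h1, h2⟩ := decomp_unique hinv hε a.2 b.2 a'.2 b'.2 h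
    exact Prod.ext (Subtype.ext h1) (Subtype.ext h2)
  · intro x
    obtain ⟨a, ha, b, hb, rfl⟩ := exists_decomp hinv hε x
    exact ⟨(⟨a, ha⟩, ⟨b, hb⟩), rfl⟩

/-- an automorphism which is trivial on the fixed field is `1` or `τ` -/
theorem eq_one_or_tau {σ : K ≃+* K} (hσ : ∀ a ∈ K0 τ, σ a = a) : (∀ a, σ a = a) ∨ ∀ a, σ a = τ a := by
  have h1 : (σ ε - ε) * (σ ε - τ ε) = 0 := by
    have h2 : ε * ε - (ε + τ ε) * ε + ε * τ ε = 0 := by ring
    have h3 := congrArg σ h2
    rw [map_zero, map_add, map_sub, map_mul, map_mul, hσ _ (add_mem_K0 hinv ε), hσ _ (mul_mem_K0 hinv ε)] at h3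
    rw [← h3]
    ring
  rcases mul_eq_zero.1 h1 with h2 | h2
  · left
    intro x
    obtain ⟨a, ha, b, hb, rfl⟩ := exists_decomp hinv hε x
    rw [map_add, map_mul, hσ a ha, hσ b hb, sub_eq_zero.1 h2]
  · right
    intro x
    obtain ⟨a, ha, b, hb, rfl⟩ := exists_decomp hinv hε x
    rw [map_add, map_mul, hσ a ha, hσ b hb, sub_eq_zero.1 h2, map_add, map_mul, mem_K0.1 ha, mem_K0.1 hb]

omit hinv hε in
/-- an automorphism fixing a certain element of the fixed field is trivial on it -/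
theorem exists_gen [Finite K] : ∃ d : K, d ∈ K0 τ ∧ d ≠ 0 ∧ ∀ σ : K ≃+* K, σ d = d → ∀ a ∈ K0 τ, σ a = a := by
  obtain ⟨g, hg⟩ := IsCyclic.exists_generator (α := (K0 τ)ˣ)
  refine ⟨(g : K0 τ), (g : K0 τ).2, fun h => g.ne_zero (Subtype.ext h), fun σ hσ a ha => ?_⟩
  by_cases h0 : a = 0
  · rw [h0, map_zero]
  have hu : IsUnit (⟨a, ha⟩ : K0 τ) := IsUnit.mk0 _ fun h => h0 (congrArg Subtype.val h)
  obtain ⟨u, hu⟩ := hu
  obtain ⟨n, hn⟩ := Subgroup.mem_zpowers_iff.1 (hg u)
  have h1 : a = ((g : K0 τ) : K) ^ n := by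
    have h2 : ((u : K0 τ) : K) = a := by rw [hu]
    rw [← h2, ← hn]
    push_cast
    rfl
  rw [h1, map_zpow₀, hσ]

omit hinv hε in
/-- the same, avoiding one value -/
theorem exists_gen_ne [Finite K] (h4 : 4 ≤ Nat.card (K0 τ)) (t : K) :
    ∃ d : K, d ∈ K0 τ ∧ d ≠ 0 ∧ (∀ σ : K ≃+* K, σ d = d → ∀ a ∈ K0 τ, σ a = a) ∧ d ≠ t := by
  obtain ⟨g, hg⟩ := IsCyclic.exists_generator (α := (K0 τ)ˣ)
  have hord : orderOf g = Nat.card (K0 τ) - 1 := by
    rw [orderOf_eq_card_of_forall_mem_zpowers hg, Nat.card_units]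
  have key : ∀ σ : K ≃+* K, σ ((g : K0 τ) : K) = ((g : K0 τ) : K) → ∀ a ∈ K0 τ, σ a = a := by
    intro σ hσ a ha
    by_cases h0 : a = 0
    · rw [h0, map_zero]
    have hu : IsUnit (⟨a, ha⟩ : K0 τ) := IsUnit.mk0 _ fun h => h0 (congrArg Subtype.val h)
    obtain ⟨u, hu⟩ := hu
    obtain ⟨n, hn⟩ := Subgroup.mem_zpowers_iff.1 (hg u)
    have h1 : a = ((g : K0 τ) : K) ^ n := by
      have h2 : ((u : K0 τ) : K) = a := by rw [hu]
      rw [← h2, ← hn]
      push_cast
      rfl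
    rw [h1, map_zpow₀, hσ]
  have hg0 : ((g : K0 τ) : K) ≠ 0 := fun h => g.ne_zero (Subtype.ext h)
  by_cases ht : ((g : K0 τ) : K) = t
  · refine ⟨((g : K0 τ) : K)⁻¹, (K0 τ).inv_mem (g : K0 τ).2, inv_ne_zero hg0, fun σ hσ => key σ ?_, ?_⟩
    · rw [map_inv₀] at hσ
      exact inv_injective hσ
    · rw [← ht]
      intro h5
      have h6 : ((g : K0 τ) : K) * ((g : K0 τ) : K) = 1 := by
        nth_rewrite 1 [← h5]
        exact inv_mul_cancel₀ hg0
      have h7 : g ^ 2 = 1 := by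
        apply Units.ext
        apply Subtype.ext
        rw [pow_two]
        push_cast
        exact h6
      have h8 := Nat.le_of_dvd (by norm_num) (orderOf_dvd_of_pow_eq_one h7)
      rw [hord] at h8
      omega
  · exact ⟨((g : K0 τ) : K), (g : K0 τ).2, hg0, key, ht⟩

/-- `x τ(x) = -1` is solvable -/
theorem exists_norm_neg_one [Finite K] : ∃ x : K, x * τ x = -1 := by
  by_cases h2 : (2 : K) = 0
  · refine ⟨1, ?_⟩
    rw [map_one, one_mul]
    have : (1 : K) + 1 = 0 := by rw [one_add_one_eq_two, h2]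
    exact eq_neg_of_add_eq_zero_left this
  set δ : K := ε - τ ε with hδ
  have hτδ : τ δ = -δ := by rw [hδ, map_sub, hinv]; ring
  have hδ2 : δ * δ ∈ K0 τ := by
    rw [mem_K0, map_mul, hτδ]; ring
  have hδ0 : δ ≠ 0 := fun h => hε (sub_eq_zero.1 h).symm
  have := Fintype.ofFinite (K0 τ)
  have hchar : ringChar (K0 τ) ≠ 2 := by
    intro h
    have h5 : ((2 : ℕ) : K0 τ) = 0 := by rw [← h]; exact ringChar.Nat.cast_ringChar
    apply h2
    have h6 := congrArg Subtype.val h5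
    push_cast at h6
    exact h6
  have hd : (⟨δ * δ, hδ2⟩ : K0 τ) ≠ 0 := fun h => by
    have h3 := congrArg Subtype.val h
    exact mul_ne_zero hδ0 hδ0 h3
  obtain ⟨x, y, hxy⟩ := FiniteField.exists_root_sum_quadratic
    (f := Polynomial.X ^ 2 + Polynomial.C (1 : K0 τ)) (g := Polynomial.C (-(⟨δ * δ, hδ2⟩ : K0 τ)) * Polynomial.X ^ 2)
    (by compute_degree!) (by compute_degree!) (FiniteField.odd_card_of_char_ne_two hchar)
  simp only [Polynomial.eval_add, Polynomial.eval_mul, Polynomial.eval_C, Polynomial.eval_pow,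
    Polynomial.eval_X] at hxy
  have hxy' : (x : K) ^ 2 + 1 + -(δ * δ) * (y : K) ^ 2 = 0 := by
    have := congrArg Subtype.val hxy
    push_cast at this
    exact this
  refine ⟨x + y * δ, ?_⟩
  have hx : τ (x : K) = x := x.2
  have hy : τ (y : K) = y := y.2
  rw [map_add, map_mul, hx, hy, hτδ]
  linear_combination hxy'

end Cfsg.Agent.H563.FC
end
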